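import Mathlib.GroupTheory.Sylow
import Mathlib.GroupTheory.PGroup
import Mathlib.Data.ZMod.Basic
import Mathlib.Data.Fintype.Prod

/-!
# Gorenstein–Walter: the `3^(1+2)` residue of the two-class step

An elementary abelian group `⟨z, e, g⟩` of order `27` on which `f` acts as a regular unipotent
matrix fixing `z` and `w` as an element of order four exchanging the lines of `z` and `g` forces
an element of order eight, impossible when the Sylow `2`-subgroup has exponent four.
-/

set_option autoImplicit false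
set_option linter.style.haveILetI false

namespace Cfsg.Agent.H57.GW

/-- The coordinates on `⟨z, e, g⟩`. -/
abbrev Vec := ZMod 3 × ZMod 3 × ZMod 3

/-- The action of `f`. -/
def fMap (a b c : ZMod 3) (v : Vec) : Vec :=
  (v.1 + a * v.2.1 + c * v.2.2, v.2.1 + b * v.2.2, v.2.2)

/-- The action of `w`. -/
def wMap (v : Vec) : Vec := (-v.2.2, v.2.1, v.1)

/-- The three words in `f` and `w`. -/
def wordMap (a b c : ZMod 3) : Fin 3 → Vec → Vec
  | 0 => fun v => fMap a b c (wMap v)
  | 1 => fun v => fMap a b c (wMap (wMap (wMap v)))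
  | 2 => fun v => fMap a b c (wMap (fMap a b c (wMap (fMap a b c (wMap (wMap (wMap v)))))))

theorem exists_order_eight : ∀ a b c : ZMod 3, a ≠ 0 → b ≠ 0 → ∃ i : Fin 3,
    (∀ v, ((wordMap a b c i)^[8]) v = v) ∧ ∃ v, ((wordMap a b c i)^[4]) v ≠ v := by
  decide +kernel

variable {G : Type*} [Group G]

/-- `g` acts on the image of `ι` as `m`. -/
def ActsAs (ι : Vec → G) (g : G) (m : Vec → Vec) : Prop := ∀ v, g * ι v * g⁻¹ = ι (m v)

theorem ActsAs.mul {ι : Vec → G} {g g' : G} {m m' : Vec → Vec} (h : ActsAs ι g m)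
    (h' : ActsAs ι g' m') : ActsAs ι (g * g') (fun v => m (m' v)) := fun v => by
  rw [← h (m' v), ← h' v]; group

theorem ActsAs.pow {ι : Vec → G} {g : G} {m : Vec → Vec} (h : ActsAs ι g m) :
    ∀ k : ℕ, ActsAs ι (g ^ k) (m^[k])
  | 0 => fun v => by simp
  | k + 1 => fun v => by
    rw [Function.iterate_succ_apply', ← h, ← h.pow k v, pow_succ']
    group

/-- An element of order `8` in its action gives an element of order divisible by `8`. -/
theorem false_of_iterate [Finite G] (S : Sylow 2 G) (hS : ∀ x ∈ (S : Subgroup G), x ^ 4 = 1)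
    {ι : Vec → G} (hinj : Function.Injective ι) {g : G} {m : Vec → Vec} (h : ActsAs ι g m)
    (h8 : ∀ v, m^[8] v = v) {v : Vec} (hv : m^[4] v ≠ v) : False := by
  haveI : Fact (Nat.Prime 2) := ⟨Nat.prime_two⟩
  obtain ⟨i, k, hk, hik⟩ :=
    Nat.exists_eq_two_pow_mul_odd (orderOf_pos g).ne'
  have hord : orderOf (g ^ k) = 2 ^ i := by
    rw [orderOf_pow' g hk.pos.ne', hik, Nat.gcd_mul_left_left, Nat.mul_div_cancel _ hk.pos]
  have hp : IsPGroup 2 (Subgroup.zpowers (g ^ k)) :=
    IsPGroup.of_card (n := i) (by rw [Nat.card_zpowers, hord])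
  obtain ⟨P, hP⟩ := hp.exists_le_sylow
  obtain ⟨y, hy⟩ := MulAction.exists_smul_eq G S P
  have h4 : (g ^ k) ^ 4 = 1 := by
    have hmem : g ^ k ∈ (P : Subgroup G) := hP (Subgroup.mem_zpowers _)
    rw [← hy, Sylow.coe_subgroup_smul] at hmem
    obtain ⟨x, hx, hxe⟩ := Subgroup.mem_map.mp hmem
    rw [← hxe]
    show (y * x * y⁻¹) ^ 4 = 1
    rw [conj_pow, hS x hx, mul_one, mul_inv_cancel]
  rw [← pow_mul, mul_comm] at h4
  obtain ⟨j, rfl⟩ := hk
  have hper : Function.IsPeriodicPt m 8 v := h8 v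
  have h1 : m^[4 * (2 * j + 1)] v = m^[4] v := by
    rw [show 4 * (2 * j + 1) = 4 + 8 * j by ring, Function.iterate_add_apply,
      (hper.mul_const j).eq]
  refine hv (hinj ?_)
  rw [← h1, ← (h.pow _ v), h4]
  group

/-- The coordinates in `⟨z, e, g⟩`. -/
def coords (z e g : G) (v : Vec) : G := z ^ v.1.val * e ^ v.2.1.val * g ^ v.2.2.val

theorem coords_add {z e g : G} (hz : z ^ 3 = 1) (he : e ^ 3 = 1) (hg : g ^ 3 = 1)
    (hze : Commute z e) (hzg : Commute z g) (heg : Commute e g) (v v' : Vec) :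
    coords z e g v * coords z e g v' = coords z e g (v + v') := by
  have hmod : ∀ (x : G), x ^ 3 = 1 → ∀ i j : ZMod 3, x ^ (i + j).val = x ^ i.val * x ^ j.val := by
    intro x hx i j
    rw [← pow_add, ZMod.val_add, ← pow_eq_pow_mod _ hx]
  simp only [coords, Prod.fst_add, Prod.snd_add, hmod z hz, hmod e he, hmod g hg]
  set A := z ^ v.1.val
  set A' := z ^ v'.1.val
  set B := e ^ v.2.1.val
  set B' := e ^ v'.2.1.val
  set C := g ^ v.2.2.val
  set C' := g ^ v'.2.2.val
  have h1 : Commute C A' := (hzg.symm.pow_pow _ _)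
  have h2 : Commute B A' := (hze.symm.pow_pow _ _)
  have h3 : Commute C B' := (heg.symm.pow_pow _ _)
  calc A * B * C * (A' * B' * C') = A * B * (C * A') * B' * C' := by group
    _ = A * (B * A') * (C * B') * C' := by rw [h1.eq]; group
    _ = A * A' * (B * B') * (C * C') := by rw [h2.eq, h3.eq]; group

/-- The residue is impossible. -/
theorem false_of_residue [Finite G] (S : Sylow 2 G) (hS : ∀ x ∈ (S : Subgroup G), x ^ 4 = 1)
    {z e g f w : G} (hz : z ^ 3 = 1) (he : e ^ 3 = 1) (hg : g ^ 3 = 1) (hze : Commute z e)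
    (hzg : Commute z g) (heg : Commute e g)
    (hind : ∀ i j k : ZMod 3, z ^ i.val * e ^ j.val * g ^ k.val = 1 → i = 0 ∧ j = 0 ∧ k = 0)
    {a b c : ZMod 3} (ha : a ≠ 0) (hb : b ≠ 0) (hfz : f * z * f⁻¹ = z)
    (hfe : f * e * f⁻¹ = z ^ a.val * e) (hfg : f * g * f⁻¹ = z ^ c.val * e ^ b.val * g)
    (hwz : w * z * w⁻¹ = g) (hwe : w * e * w⁻¹ = e) (hwg : w * g * w⁻¹ = z⁻¹) : False := by
  set ι := coords z e g with hι
  have hadd := coords_add hz he hg hze hzg heg
  have hinj : Function.Injective ι := by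
    intro v v' hvv
    have h0 : coords z e g (v - v') = 1 := by
      have := hadd (v - v') v'
      rw [sub_add_cancel] at this
      exact mul_eq_right.mp (this.trans hvv)
    obtain ⟨h1, h2, h3⟩ := hind _ _ _ h0
    exact sub_eq_zero.mp (Prod.ext h1 (Prod.ext h2 h3))
  -- an element acting as an additive map is determined on the basis
  have hlin : ∀ (x : G) (m : Vec → Vec), (∀ v v', m (v + v') = m v + m v') →
      x * z * x⁻¹ = ι (m (1, 0, 0)) → x * e * x⁻¹ = ι (m (0, 1, 0)) →
      x * g * x⁻¹ = ι (m (0, 0, 1)) → ActsAs ι x m := by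
    intro x m hm h1 h2 h3
    have hm0 : m 0 = 0 := by simpa using hm 0 0
    have hnat : ∀ (y : G) (u : Vec), x * y * x⁻¹ = ι (m u) → ∀ k : ℕ,
        x * y ^ k * x⁻¹ = ι (m (k • u)) := by
      intro y u hy k
      induction k with
      | zero => simp [hm0, hι, coords]
      | succ k ih =>
        rw [succ_nsmul, hm, hι, ← hadd, ← hι, ← ih, ← hy, pow_succ]
        group
    have hv : ∀ v : Vec, v =
        v.1.val • ((1, 0, 0) : Vec) + v.2.1.val • ((0, 1, 0) : Vec) +
          v.2.2.val • ((0, 0, 1) : Vec) := by decide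
    intro v
    have : x * ι v * x⁻¹ = (x * z ^ v.1.val * x⁻¹) * (x * e ^ v.2.1.val * x⁻¹) *
        (x * g ^ v.2.2.val * x⁻¹) := by rw [hι, coords]; group
    rw [this, hnat z _ h1, hnat e _ h2, hnat g _ h3, hι, hadd, hadd, ← hm, ← hm, ← hv]
  have hv1 : (1 : ZMod 3).val = 1 := rfl
  have hf : ActsAs ι f (fMap a b c) := hlin f _
    (fun v v' => by simp only [fMap, Prod.fst_add, Prod.snd_add, Prod.mk_add_mk]; ring_nf)
    (by rw [hfz]; simp [hι, coords, fMap, hv1])
    (by rw [hfe]; simp [hι, coords, fMap, hv1])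
    (by rw [hfg]; simp [hι, coords, fMap, hv1])
  have hzi : z⁻¹ = z ^ (-1 : ZMod 3).val := by
    rw [show ((-1 : ZMod 3).val) = 2 from rfl]
    exact inv_eq_of_mul_eq_one_left (by rw [← pow_succ, hz])
  have hw : ActsAs ι w wMap := hlin w _
    (fun v v' => by simp only [wMap, Prod.fst_add, Prod.snd_add, Prod.mk_add_mk, neg_add])
    (by rw [hwz]; simp [hι, coords, wMap, hv1])
    (by rw [hwe]; simp [hι, coords, wMap, hv1])
    (by rw [hwg, hzi]; simp [hι, coords, wMap])
  obtain ⟨i, h8, v, hv⟩ := exists_order_eight a b c ha hb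
  fin_cases i
  · exact false_of_iterate S hS hinj (hf.mul hw) h8 hv
  · exact false_of_iterate S hS hinj (hf.mul (hw.mul (hw.mul hw))) h8 hv
  · exact false_of_iterate S hS hinj
      (hf.mul (hw.mul (hf.mul (hw.mul (hf.mul (hw.mul (hw.mul hw))))))) h8 hv

end Cfsg.Agent.H57.GW
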